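import Groth.Agent.FittFormal.Presentation
import Mathlib.LinearAlgebra.TensorProduct.Quotient

/-!
# T¹ of a formal complete intersection modulo a power of the parameter
-/

set_option autoImplicit false

universe u

open KaehlerDifferential CategoryTheory TensorProduct

namespace Groth.Agent.FittFormal

section

variable {k : Type u} [Field k] {r c : ℕ} {B : Type u} [CommRing B] [Algebra (PowerSeries k) B] (ψ : (AdicCompletion (Ideal.span {MvPolynomial.C (σ := Fin r) (PowerSeries.X (R := k))}) (MvPolynomial (Fin r) (PowerSeries k))) →ₐ[(PowerSeries k)] B)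
  (a : Fin c → (AdicCompletion (Ideal.span {MvPolynomial.C (σ := Fin r) (PowerSeries.X (R := k))}) (MvPolynomial (Fin r) (PowerSeries k)))) (hψ : Function.Surjective ψ) (hker : RingHom.ker ψ.toRingHom = Ideal.span (Set.range a))
  (row : Fin c → Fin r → B)
  (hrow : ∀ (j : Fin c) (i : Fin r) (n : ℕ) (p : (MvPolynomial (Fin r) (PowerSeries k))), a j - algebraMap (MvPolynomial (Fin r) (PowerSeries k)) (AdicCompletion (Ideal.span {MvPolynomial.C (σ := Fin r) (PowerSeries.X (R := k))}) (MvPolynomial (Fin r) (PowerSeries k))) p ∈ Ideal.span {(algebraMap (PowerSeries k) (AdicCompletion (Ideal.span {MvPolynomial.C (σ := Fin r) (PowerSeries.X (R := k))}) (MvPolynomial (Fin r) (PowerSeries k))) PowerSeries.X) ^ n} →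
    pol ψ (MvPolynomial.pderiv i p) - row j i ∈ Ideal.span {(algebraMap (PowerSeries k) B PowerSeries.X) ^ n})

include hψ hker hrow in
lemma injective_row_aux [PerfectField k] [Module.Flat (PowerSeries k) B] [IsAdicComplete (Ideal.span {(algebraMap (PowerSeries k) B PowerSeries.X)}) B]
    [IsReduced (B ⧸ Ideal.span {algebraMap (PowerSeries k) B PowerSeries.X})]
    (hreg : RingTheory.Sequence.IsRegular ((AdicCompletion (Ideal.span {MvPolynomial.C (σ := Fin r) (PowerSeries.X (R := k))}) (MvPolynomial (Fin r) (PowerSeries k))) ⧸ Ideal.span {(algebraMap (PowerSeries k) (AdicCompletion (Ideal.span {MvPolynomial.C (σ := Fin r) (PowerSeries.X (R := k))}) (MvPolynomial (Fin r) (PowerSeries k))) PowerSeries.X) ^ 1})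
      ((List.ofFn a).map (Ideal.Quotient.mk (Ideal.span {(algebraMap (PowerSeries k) (AdicCompletion (Ideal.span {MvPolynomial.C (σ := Fin r) (PowerSeries.X (R := k))}) (MvPolynomial (Fin r) (PowerSeries k))) PowerSeries.X) ^ 1})))) :
    ∀ w : Fin c → B, (∀ i, Fintype.linearCombination B row w i ∈ Ideal.span {(algebraMap (PowerSeries k) B PowerSeries.X)}) → ∀ j, w j ∈ Ideal.span {(algebraMap (PowerSeries k) B PowerSeries.X)} := by
  classical
  let mk₀ : B →+* (B ⧸ Ideal.span {algebraMap (PowerSeries k) B PowerSeries.X}) := Ideal.Quotient.mk _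
  have hX : mk₀ (algebraMap (PowerSeries k) B PowerSeries.X) = 0 := Ideal.Quotient.eq_zero_iff_mem.mpr (Ideal.mem_span_singleton_self _)
  letI : Algebra k (B ⧸ Ideal.span {algebraMap (PowerSeries k) B PowerSeries.X}) := ((mk₀.comp (algebraMap (PowerSeries k) B)).comp PowerSeries.C).toAlgebra
  let φ₀ : MvPolynomial (Fin r) k →+* (B ⧸ Ideal.span {algebraMap (PowerSeries k) B PowerSeries.X}) :=
    MvPolynomial.eval₂Hom (algebraMap k (B ⧸ Ideal.span {algebraMap (PowerSeries k) B PowerSeries.X})) fun i => mk₀ (pol ψ (MvPolynomial.X i))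
  have hC : ∀ x : k, φ₀ (MvPolynomial.C x) = algebraMap k (B ⧸ Ideal.span {algebraMap (PowerSeries k) B PowerSeries.X}) x := fun x => MvPolynomial.eval₂Hom_C _ _ x
  have hφρ : φ₀.comp rho = mk₀.comp (pol ψ).toRingHom := by
    refine MvPolynomial.ringHom_ext (fun s => ?_) fun i => by simp [φ₀, rho]
    show φ₀ (rho (MvPolynomial.C s)) = mk₀ (pol ψ (MvPolynomial.C s))
    rw [← MvPolynomial.algebraMap_eq, AlgHom.commutes, MvPolynomial.algebraMap_eq,
      show rho (MvPolynomial.C s : (MvPolynomial (Fin r) (PowerSeries k))) = MvPolynomial.C (PowerSeries.constantCoeff s) from MvPolynomial.map_C _ _,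
      hC]
    conv_rhs => rw [PowerSeries.eq_X_mul_shift_add_const s]
    rw [map_add, map_add, map_mul, map_mul, hX, zero_mul, zero_add]
    rfl
  have hθψ : ∀ x : (AdicCompletion (Ideal.span {MvPolynomial.C (σ := Fin r) (PowerSeries.X (R := k))}) (MvPolynomial (Fin r) (PowerSeries k))), φ₀ (theta x) = mk₀ (ψ x) := by
    intro x
    obtain ⟨p, hp⟩ := exists_approx x 1
    obtain ⟨y, hy⟩ := Ideal.mem_span_singleton.mp hp
    rw [show x = algebraMap (MvPolynomial (Fin r) (PowerSeries k)) (AdicCompletion (Ideal.span {MvPolynomial.C (σ := Fin r) (PowerSeries.X (R := k))}) (MvPolynomial (Fin r) (PowerSeries k))) p + (algebraMap (PowerSeries k) (AdicCompletion (Ideal.span {MvPolynomial.C (σ := Fin r) (PowerSeries.X (R := k))}) (MvPolynomial (Fin r) (PowerSeries k))) PowerSeries.X) ^ 1 * y by rw [← hy]; abel, pow_one, map_add, map_mul, theta_t, zero_mul,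
      add_zero, map_add, map_mul, AlgHom.commutes, map_add, map_mul, hX, zero_mul, add_zero, theta_algebraMap]
    exact RingHom.congr_fun hφρ p
  let a₀ : Fin c → MvPolynomial (Fin r) k := fun j => theta (a j)
  have hφsurj : Function.Surjective φ₀ := fun b => by
    obtain ⟨b, rfl⟩ := Ideal.Quotient.mk_surjective b
    obtain ⟨x, rfl⟩ := hψ b
    exact ⟨theta x, hθψ x⟩
  have hker₀ : RingHom.ker φ₀ = Ideal.span (Set.range a₀) := by
    refine le_antisymm (fun q hq => ?_) (Ideal.span_le.mpr ?_)
    · obtain ⟨x, rfl⟩ := theta_surjective q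
      have h1 : ψ x ∈ Ideal.span {(algebraMap (PowerSeries k) B PowerSeries.X)} := Ideal.Quotient.eq_zero_iff_mem.mp ((hθψ x).symm.trans hq)
      obtain ⟨b, hb⟩ := Ideal.mem_span_singleton.mp h1
      obtain ⟨y, rfl⟩ := hψ b
      have h2 : x - (algebraMap (PowerSeries k) (AdicCompletion (Ideal.span {MvPolynomial.C (σ := Fin r) (PowerSeries.X (R := k))}) (MvPolynomial (Fin r) (PowerSeries k))) PowerSeries.X) * y ∈ Ideal.span (Set.range a) := by
        rw [← hker, RingHom.mem_ker]
        show ψ _ = 0
        rw [map_sub, map_mul, AlgHom.commutes, hb, sub_self]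
      have h3 := Ideal.mem_map_of_mem theta h2
      rw [map_sub, map_mul, theta_t, zero_mul, sub_zero, Ideal.map_span, ← Set.range_comp] at h3
      exact h3
    · rintro _ ⟨j, rfl⟩
      have h0 : ψ (a j) = 0 :=
        RingHom.mem_ker.mp (hker ▸ Ideal.subset_span ⟨j, rfl⟩ : a j ∈ RingHom.ker ψ.toRingHom)
      show φ₀ (theta (a j)) = 0
      rw [hθψ, h0, map_zero]
  let e : ((AdicCompletion (Ideal.span {MvPolynomial.C (σ := Fin r) (PowerSeries.X (R := k))}) (MvPolynomial (Fin r) (PowerSeries k))) ⧸ Ideal.span {(algebraMap (PowerSeries k) (AdicCompletion (Ideal.span {MvPolynomial.C (σ := Fin r) (PowerSeries.X (R := k))}) (MvPolynomial (Fin r) (PowerSeries k))) PowerSeries.X) ^ 1}) ≃+* MvPolynomial (Fin r) k := RingEquiv.ofBijective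
    (Ideal.Quotient.lift _ theta fun x hx => (theta_eq_zero_iff x).mpr hx)
    ⟨RingHom.lift_injective_of_ker_le_ideal _ (fun x hx => (theta_eq_zero_iff x).mpr hx)
        (fun x hx => (theta_eq_zero_iff x).mp hx),
      Ideal.Quotient.lift_surjective_of_surjective _ _ theta_surjective⟩
  have hreg₀ : RingTheory.Sequence.IsRegular (MvPolynomial (Fin r) k) (List.ofFn a₀) :=
    (e.toAddEquiv.isRegular_congr (as := (List.ofFn a).map (Ideal.Quotient.mk (Ideal.span {(algebraMap (PowerSeries k) (AdicCompletion (Ideal.span {MvPolynomial.C (σ := Fin r) (PowerSeries.X (R := k))}) (MvPolynomial (Fin r) (PowerSeries k))) PowerSeries.X) ^ 1})))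
      (bs := List.ofFn a₀) (by
        rw [List.forall₂_iff_get]
        refine ⟨by simp, fun i h₁ h₂ x => ?_⟩
        simp only [List.get_eq_getElem, List.getElem_map, List.getElem_ofFn, smul_eq_mul]
        show e (_ * x) = _ * e x
        rw [map_mul]
        rfl)).mp hreg
  letI : Algebra (MvPolynomial (Fin r) k) (B ⧸ Ideal.span {algebraMap (PowerSeries k) B PowerSeries.X}) := φ₀.toAlgebra
  haveI : IsScalarTower k (MvPolynomial (Fin r) k) (B ⧸ Ideal.span {algebraMap (PowerSeries k) B PowerSeries.X}) := IsScalarTower.of_algebraMap_eq fun x => (hC x).symm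
  have hinj₀ := S16187.injective_jacobian (B := (B ⧸ Ideal.span {algebraMap (PowerSeries k) B PowerSeries.X})) a₀ hφsurj hker₀ hreg₀.toIsWeaklyRegular
  have hJ : ∀ j i, S16187.J (B := (B ⧸ Ideal.span {algebraMap (PowerSeries k) B PowerSeries.X})) a₀ j i = mk₀ (row j i) := by
    intro j i
    obtain ⟨p, hp⟩ := exists_approx (a j) 1
    have hap : a₀ j = rho p := by
      rw [← theta_algebraMap, ← sub_eq_zero, ← map_sub]
      exact (theta_eq_zero_iff _).mpr hp
    show φ₀ (MvPolynomial.pderiv i (a₀ j)) = _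
    rw [hap, show MvPolynomial.pderiv i (rho p) = rho (MvPolynomial.pderiv i p) from MvPolynomial.pderiv_map]
    refine (RingHom.congr_fun hφρ _).trans (Ideal.Quotient.eq.mpr ?_)
    have := hrow j i 1 p hp
    rwa [pow_one] at this
  intro w hw j
  have h1 : Fintype.linearCombination (B ⧸ Ideal.span {algebraMap (PowerSeries k) B PowerSeries.X}) (S16187.J (B := (B ⧸ Ideal.span {algebraMap (PowerSeries k) B PowerSeries.X})) a₀) (fun j => mk₀ (w j)) = 0 := by
    funext i
    have h2 : mk₀ (Fintype.linearCombination B row w i) = 0 := Ideal.Quotient.eq_zero_iff_mem.mpr (hw i)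
    simp only [Fintype.linearCombination_apply, Finset.sum_apply, Pi.smul_apply, smul_eq_mul, Pi.zero_apply,
      map_sum, map_mul, map_zero] at h2 ⊢
    simpa only [hJ] using h2
  exact Ideal.Quotient.eq_zero_iff_mem.mp (congrFun (hinj₀ (h1.trans (map_zero _).symm)) j)

include hψ hker hrow in
lemma mod_pow_injective [PerfectField k] [Module.Flat (PowerSeries k) B] [IsAdicComplete (Ideal.span {(algebraMap (PowerSeries k) B PowerSeries.X)}) B]
    [IsReduced (B ⧸ Ideal.span {algebraMap (PowerSeries k) B PowerSeries.X})]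
    (hreg : RingTheory.Sequence.IsRegular ((AdicCompletion (Ideal.span {MvPolynomial.C (σ := Fin r) (PowerSeries.X (R := k))}) (MvPolynomial (Fin r) (PowerSeries k))) ⧸ Ideal.span {(algebraMap (PowerSeries k) (AdicCompletion (Ideal.span {MvPolynomial.C (σ := Fin r) (PowerSeries.X (R := k))}) (MvPolynomial (Fin r) (PowerSeries k))) PowerSeries.X) ^ 1})
      ((List.ofFn a).map (Ideal.Quotient.mk (Ideal.span {(algebraMap (PowerSeries k) (AdicCompletion (Ideal.span {MvPolynomial.C (σ := Fin r) (PowerSeries.X (R := k))}) (MvPolynomial (Fin r) (PowerSeries k))) PowerSeries.X) ^ 1})))) :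
    ∀ (m : ℕ) (w : Fin c → B), (∀ i, Fintype.linearCombination B row w i ∈ Ideal.span {(algebraMap (PowerSeries k) B PowerSeries.X) ^ m}) →
      ∀ j, w j ∈ Ideal.span {(algebraMap (PowerSeries k) B PowerSeries.X) ^ m} := by
  have hu : IsSMulRegular B (PowerSeries.X : (PowerSeries k)) :=
    Module.Flat.isSMulRegular_of_isRegular (IsRegular.of_ne_zero PowerSeries.X_ne_zero)
  intro m
  induction m with
  | zero => intro w _ j; simp
  | succ m ih =>
    intro w hw j
    have h1 : ∀ i, Fintype.linearCombination B row w i ∈ Ideal.span {(algebraMap (PowerSeries k) B PowerSeries.X)} := fun i =>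
      Ideal.span_singleton_le_span_singleton.mpr (dvd_pow_self _ m.succ_ne_zero) (hw i)
    choose w' hw' using fun j => Ideal.mem_span_singleton.mp (injective_row_aux ψ a hψ hker row hrow hreg w h1 j)
    have h2 : ∀ i, Fintype.linearCombination B row w' i ∈ Ideal.span {(algebraMap (PowerSeries k) B PowerSeries.X) ^ m} := by
      intro i
      obtain ⟨q, hq⟩ := Ideal.mem_span_singleton.mp (hw i)
      refine Ideal.mem_span_singleton.mpr ⟨q, hu ?_⟩
      show (PowerSeries.X : (PowerSeries k)) • _ = (PowerSeries.X : (PowerSeries k)) • ((algebraMap (PowerSeries k) B PowerSeries.X) ^ m * q)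
      rw [Algebra.smul_def, Algebra.smul_def, ← mul_assoc, ← pow_succ', ← hq, show w = (algebraMap (PowerSeries k) B PowerSeries.X) • w' from funext hw',
        map_smul]
      rfl
    rw [hw' j, pow_succ']
    exact Ideal.mem_span_singleton.mpr (mul_dvd_mul_left _ (Ideal.mem_span_singleton.mp (ih w' h2 j)))

end

theorem nonempty_level {k : Type u} [Field k] [PerfectField k] {r c : ℕ}
    (a : Fin c → (AdicCompletion (Ideal.span {MvPolynomial.C (σ := Fin r) (PowerSeries.X (R := k))}) (MvPolynomial (Fin r) (PowerSeries k))))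
    {B : Type u} [CommRing B] [Algebra (PowerSeries k) B] [IsNoetherianRing B]
    [IsAdicComplete (Ideal.span {(algebraMap (PowerSeries k) B PowerSeries.X)}) B]
    [Module.Flat (PowerSeries k) B]
    (ψ : (AdicCompletion (Ideal.span {MvPolynomial.C (σ := Fin r) (PowerSeries.X (R := k))}) (MvPolynomial (Fin r) (PowerSeries k))) →ₐ[(PowerSeries k)] B)
    (hψ : Function.Surjective ψ) (hker : RingHom.ker ψ.toRingHom = Ideal.span (Set.range a))
    (hreg : RingTheory.Sequence.IsRegular ((AdicCompletion (Ideal.span {MvPolynomial.C (σ := Fin r) (PowerSeries.X (R := k))}) (MvPolynomial (Fin r) (PowerSeries k))) ⧸ Ideal.span {(algebraMap (PowerSeries k) (AdicCompletion (Ideal.span {MvPolynomial.C (σ := Fin r) (PowerSeries.X (R := k))}) (MvPolynomial (Fin r) (PowerSeries k))) PowerSeries.X) ^ 1})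
      ((List.ofFn a).map (Ideal.Quotient.mk (Ideal.span {(algebraMap (PowerSeries k) (AdicCompletion (Ideal.span {MvPolynomial.C (σ := Fin r) (PowerSeries.X (R := k))}) (MvPolynomial (Fin r) (PowerSeries k))) PowerSeries.X) ^ 1}))))
    [IsReduced (B ⧸ Ideal.span {algebraMap (PowerSeries k) B PowerSeries.X})] (n : ℕ) :
    Nonempty (TensorProduct B (B ⧸ Ideal.span {(algebraMap (PowerSeries k) B PowerSeries.X) ^ n})
        (Abelian.Ext.{u} (ModuleCat.of B (AdicCompletion (Ideal.span {(algebraMap (PowerSeries k) B PowerSeries.X)}) Ω[B⁄(PowerSeries k)])) (ModuleCat.of B B) 1) ≃ₗ[(B ⧸ Ideal.span {(algebraMap (PowerSeries k) B PowerSeries.X) ^ n})]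
      Abelian.Ext.{u} (ModuleCat.of (B ⧸ Ideal.span {(algebraMap (PowerSeries k) B PowerSeries.X) ^ n}) Ω[(B ⧸ Ideal.span {(algebraMap (PowerSeries k) B PowerSeries.X) ^ n})⁄(PowerSeries k)]) (ModuleCat.of (B ⧸ Ideal.span {(algebraMap (PowerSeries k) B PowerSeries.X) ^ n}) (B ⧸ Ideal.span {(algebraMap (PowerSeries k) B PowerSeries.X) ^ n})) 1) := by
  classical
  choose row hrow using fun j i => exists_jac ψ a j i
  obtain ⟨hinj, -⟩ := injective_row ψ a hψ hker row hrow hreg
  obtain ⟨x, hx, hrel⟩ := S16187.ext_presentation row (gen ψ) hinj (exact_gen ψ a hψ hker row hrow)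
    (surjective_gen ψ hψ)
  let I : Ideal B := Ideal.span {(algebraMap (PowerSeries k) B PowerSeries.X) ^ n}
  let mk : B →+* (B ⧸ Ideal.span {(algebraMap (PowerSeries k) B PowerSeries.X) ^ n}) := Ideal.Quotient.mk I
  let rown : Fin c → Fin r → (B ⧸ Ideal.span {(algebraMap (PowerSeries k) B PowerSeries.X) ^ n}) := fun j i => mk (row j i)
  let gn : Fin r → Ω[(B ⧸ Ideal.span {(algebraMap (PowerSeries k) B PowerSeries.X) ^ n})⁄(PowerSeries k)] := fun i => D (PowerSeries k) (B ⧸ Ideal.span {(algebraMap (PowerSeries k) B PowerSeries.X) ^ n}) (mk (pol ψ (MvPolynomial.X i)))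
  have hlift : ∀ b : (B ⧸ Ideal.span {(algebraMap (PowerSeries k) B PowerSeries.X) ^ n}), ∃ p : (MvPolynomial (Fin r) (PowerSeries k)), mk (pol ψ p) = b := by
    intro b
    obtain ⟨b, rfl⟩ := Ideal.Quotient.mk_surjective b
    obtain ⟨p, hp⟩ := exists_lift ψ hψ b n
    exact ⟨p, Ideal.Quotient.eq.mpr hp⟩
  have hD : ∀ p : (MvPolynomial (Fin r) (PowerSeries k)), D (PowerSeries k) (B ⧸ Ideal.span {(algebraMap (PowerSeries k) B PowerSeries.X) ^ n}) (mk (pol ψ p)) = ∑ i, mk (grad ψ p i) • gn i := by
    intro p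
    have h := congrArg (KaehlerDifferential.map (PowerSeries k) (PowerSeries k) B (B ⧸ Ideal.span {(algebraMap (PowerSeries k) B PowerSeries.X) ^ n})) (D_pol ψ p)
    rw [KaehlerDifferential.map_D, map_sum] at h
    refine h.trans (Finset.sum_congr rfl fun i _ => ?_)
    rw [map_smul, KaehlerDifferential.map_D, ← algebraMap_smul (B ⧸ Ideal.span {(algebraMap (PowerSeries k) B PowerSeries.X) ^ n}) (grad ψ p i)]
    rfl
  let N : Submodule (B ⧸ Ideal.span {(algebraMap (PowerSeries k) B PowerSeries.X) ^ n}) (Fin r → (B ⧸ Ideal.span {(algebraMap (PowerSeries k) B PowerSeries.X) ^ n})) := LinearMap.range (Fintype.linearCombination (B ⧸ Ideal.span {(algebraMap (PowerSeries k) B PowerSeries.X) ^ n}) rown)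
  have hN : ∀ v : Fin r → B, v ∈ relN (k := k) row n → (fun i => mk (v i)) ∈ N := by
    intro v hv
    obtain ⟨_, ⟨q, rfl⟩, e, he, rfl⟩ := Submodule.mem_sup.mp hv
    refine ⟨fun j => mk (q j), funext fun i => ?_⟩
    have he' : ∀ i, e i ∈ I := by
      refine Submodule.smul_induction_on he (fun b hb y _ i => ?_) (fun y z hy hz i => I.add_mem (hy i) (hz i))
      rw [Ideal.span_singleton_pow] at hb
      exact Ideal.mul_mem_right _ _ hb
    simp only [Fintype.linearCombination_apply, Finset.sum_apply, Pi.smul_apply, smul_eq_mul, rown, Pi.add_apply,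
      map_add, map_sum, map_mul, show mk (e i) = 0 from Ideal.Quotient.eq_zero_iff_mem.mpr (he' i), add_zero]
  choose l hl using hlift
  let f : (B ⧸ Ideal.span {(algebraMap (PowerSeries k) B PowerSeries.X) ^ n}) → (Fin r → (B ⧸ Ideal.span {(algebraMap (PowerSeries k) B PowerSeries.X) ^ n})) ⧸ N := fun b => Submodule.Quotient.mk fun i => mk (grad ψ (l b) i)
  have hf : ∀ (b : (B ⧸ Ideal.span {(algebraMap (PowerSeries k) B PowerSeries.X) ^ n})) (p : (MvPolynomial (Fin r) (PowerSeries k))), mk (pol ψ p) = b → f b = Submodule.Quotient.mk fun i => mk (grad ψ p i) := by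
    intro b p hp
    refine (Submodule.Quotient.eq _).mpr ?_
    have h := Ideal.Quotient.eq.mp ((hl b).trans hp.symm)
    rw [← map_sub] at h
    convert hN _ (grad_mem ψ a hψ hker row hrow n _ h) using 1
    funext i; simp [grad]
  let L : (B ⧸ Ideal.span {(algebraMap (PowerSeries k) B PowerSeries.X) ^ n}) →ₗ[(PowerSeries k)] (Fin r → (B ⧸ Ideal.span {(algebraMap (PowerSeries k) B PowerSeries.X) ^ n})) ⧸ N :=
    { toFun := f
      map_add' := fun y z => by
        rw [hf (y + z) (l y + l z) (by rw [map_add, map_add, hl, hl])]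
        simp only [f, ← Submodule.Quotient.mk_add]
        congr 1
        funext i; simp [grad_add]
      map_smul' := fun s y => by
        rw [RingHom.id_apply, hf (s • y) (MvPolynomial.C s * l y) (by
          rw [map_mul, ← MvPolynomial.algebraMap_eq, AlgHom.commutes, map_mul, hl, Algebra.smul_def]
          rfl), ← IsScalarTower.algebraMap_smul (B ⧸ Ideal.span {(algebraMap (PowerSeries k) B PowerSeries.X) ^ n}) s (f y), ← Submodule.Quotient.mk_smul]
        congr 1
        funext i
        rw [grad_C_mul, Pi.smul_apply, Pi.smul_apply, smul_eq_mul, smul_eq_mul, map_mul]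
        rfl }
  let d : Derivation (PowerSeries k) (B ⧸ Ideal.span {(algebraMap (PowerSeries k) B PowerSeries.X) ^ n}) ((Fin r → (B ⧸ Ideal.span {(algebraMap (PowerSeries k) B PowerSeries.X) ^ n})) ⧸ N) := Derivation.mk' L fun y z => by
    show f (y * z) = y • f z + z • f y
    rw [hf (y * z) (l y * l z) (by rw [map_mul, map_mul, hl, hl]), ← Submodule.Quotient.mk_smul,
      ← Submodule.Quotient.mk_smul, ← Submodule.Quotient.mk_add]
    congr 1
    funext i
    rw [grad_mul, Pi.add_apply, Pi.smul_apply, Pi.smul_apply, smul_eq_mul, smul_eq_mul, map_add, map_mul,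
      map_mul, hl, hl]
    rfl
  have hexn : Function.Exact (Fintype.linearCombination (B ⧸ Ideal.span {(algebraMap (PowerSeries k) B PowerSeries.X) ^ n}) rown) (Fintype.linearCombination (B ⧸ Ideal.span {(algebraMap (PowerSeries k) B PowerSeries.X) ^ n}) gn) := by
    intro v
    constructor
    · intro hv
      have h := congrArg d.liftKaehlerDifferential hv
      rw [map_zero, Fintype.linearCombination_apply, map_sum] at h
      show v ∈ N
      rw [← Submodule.Quotient.mk_eq_zero, ← h]
      conv_lhs => rw [pi_eq_sum_univ' v, ← Submodule.mkQ_apply, map_sum]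
      refine Finset.sum_congr rfl fun i _ => ?_
      rw [map_smul, map_smul, Derivation.liftKaehlerDifferential_comp_D]
      show v i • Submodule.Quotient.mk _ = v i • f _
      rw [hf _ _ rfl]
      congr 2
      funext j
      rw [grad_X]
      simp [Pi.single_apply, apply_ite mk]
    · rintro ⟨q, rfl⟩
      rw [Fintype.linearCombination_apply (B ⧸ Ideal.span {(algebraMap (PowerSeries k) B PowerSeries.X) ^ n}) rown q, map_sum]
      refine Finset.sum_eq_zero fun j _ => ?_
      obtain ⟨p, hp⟩ := exists_approx (a j) n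
      have h := hD p
      rw [Ideal.Quotient.eq_zero_iff_mem.mpr (pol_mem ψ a hker j n p hp), map_zero] at h
      rw [map_smul, Fintype.linearCombination_apply, show ∑ i, rown j i • gn i = 0 from h.trans
        (Finset.sum_congr rfl fun i _ => by
          rw [show mk (grad ψ p i) = rown j i from Ideal.Quotient.eq.mpr (hrow j i n p hp)]) |>.symm, smul_zero]
  have hsurjn : Function.Surjective (Fintype.linearCombination (B ⧸ Ideal.span {(algebraMap (PowerSeries k) B PowerSeries.X) ^ n}) gn) := by
    rw [← LinearMap.range_eq_top, eq_top_iff, ← span_range_derivation (PowerSeries k) (B ⧸ Ideal.span {(algebraMap (PowerSeries k) B PowerSeries.X) ^ n}), Submodule.span_le]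
    rintro _ ⟨b, rfl⟩
    refine ⟨fun i => mk (grad ψ (l b) i), ?_⟩
    rw [Fintype.linearCombination_apply, ← hD, hl]
  have hu : IsSMulRegular B ((algebraMap (PowerSeries k) B PowerSeries.X) ^ n) := by
    have h : IsSMulRegular B ((PowerSeries.X : (PowerSeries k)) ^ n) :=
      Module.Flat.isSMulRegular_of_isRegular (IsRegular.of_ne_zero (pow_ne_zero _ PowerSeries.X_ne_zero))
    intro y z hyz
    refine h ?_
    simp only [Algebra.smul_def, map_pow]
    exact hyz
  have hreg1 : ∀ (m : ℕ) (w : Fin c → B), (∀ i, Fintype.linearCombination B row w i ∈ Ideal.span {(algebraMap (PowerSeries k) B PowerSeries.X) ^ m}) →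
      ∀ j, w j ∈ Ideal.span {(algebraMap (PowerSeries k) B PowerSeries.X) ^ m} := fun m => mod_pow_injective ψ a hψ hker row hrow hreg m
  have hinjn : Function.Injective (Fintype.linearCombination (B ⧸ Ideal.span {(algebraMap (PowerSeries k) B PowerSeries.X) ^ n}) rown) := by
    rw [injective_iff_map_eq_zero]
    intro v hv
    choose w hw using fun j => Ideal.Quotient.mk_surjective (v j)
    funext j
    rw [← hw j]
    refine Ideal.Quotient.eq_zero_iff_mem.mpr (hreg1 n w (fun i => ?_) j)
    refine Ideal.Quotient.eq_zero_iff_mem.mp ?_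
    refine Eq.trans ?_ (congrFun hv i)
    simp [Fintype.linearCombination_apply, rown, mk, ← hw]
    rfl
  obtain ⟨y, hy, hyrel⟩ := S16187.ext_presentation rown gn hinjn hexn hsurjn
  let T := Abelian.Ext.{u} (ModuleCat.of B (AdicCompletion (Ideal.span {(algebraMap (PowerSeries k) B PowerSeries.X)}) Ω[B⁄(PowerSeries k)])) (ModuleCat.of B B) 1
  let G := Fintype.linearCombination (B ⧸ Ideal.span {(algebraMap (PowerSeries k) B PowerSeries.X) ^ n}) fun j => ((1 : (B ⧸ Ideal.span {(algebraMap (PowerSeries k) B PowerSeries.X) ^ n})) ⊗ₜ[B] x j)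
  let F := Fintype.linearCombination (B ⧸ Ideal.span {(algebraMap (PowerSeries k) B PowerSeries.X) ^ n}) y
  have hF : Function.Surjective F := by
    rw [← LinearMap.range_eq_top, Fintype.range_linearCombination, hy]
  have hGt : ∀ w : Fin c → B, G (fun j => mk (w j)) = (1 : (B ⧸ Ideal.span {(algebraMap (PowerSeries k) B PowerSeries.X) ^ n})) ⊗ₜ[B] (∑ j, w j • x j) := by
    intro w
    rw [Fintype.linearCombination_apply, TensorProduct.tmul_sum]
    refine Finset.sum_congr rfl fun j _ => ?_
    rw [TensorProduct.tmul_smul, ← algebraMap_smul (B ⧸ Ideal.span {(algebraMap (PowerSeries k) B PowerSeries.X) ^ n}) (w j)]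
    rfl
  have hG : Function.Surjective G := by
    intro z
    induction z using TensorProduct.induction_on with
    | zero => exact ⟨0, map_zero _⟩
    | tmul b t =>
      obtain ⟨b, rfl⟩ := Ideal.Quotient.mk_surjective b
      obtain ⟨w, hw⟩ := (Submodule.mem_span_range_iff_exists_fun B).mp (hx ▸ Submodule.mem_top : t ∈ Submodule.span B (Set.range x))
      refine ⟨fun j => mk (b * w j), ?_⟩
      rw [hGt, ← hw]
      simp only [mul_smul, ← Finset.smul_sum, TensorProduct.tmul_smul, TensorProduct.smul_tmul']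
      congr 1
      rw [Algebra.smul_def, mul_one]
      rfl
    | add p q hp hq =>
      obtain ⟨p', rfl⟩ := hp
      obtain ⟨q', rfl⟩ := hq
      exact ⟨p' + q', map_add _ _ _⟩
  have hkerFG : LinearMap.ker G = LinearMap.ker F := by
    have hkF : LinearMap.ker F = Submodule.span (B ⧸ Ideal.span {(algebraMap (PowerSeries k) B PowerSeries.X) ^ n}) (Set.range fun (i : Fin r) (j : Fin c) => rown j i) := by
      ext v
      rw [LinearMap.mem_ker, Fintype.linearCombination_apply]
      exact hyrel v
    rw [hkF]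
    refine le_antisymm (fun v hv => ?_) (Submodule.span_le.mpr ?_)
    · choose w hw using fun j => Ideal.Quotient.mk_surjective (v j)
      obtain rfl : (fun j => mk (w j)) = v := funext hw
      rw [LinearMap.mem_ker, hGt] at hv
      have h := congrArg (TensorProduct.quotTensorEquivQuotSMul T I) hv
      rw [map_zero, show (1 : (B ⧸ Ideal.span {(algebraMap (PowerSeries k) B PowerSeries.X) ^ n})) = Ideal.Quotient.mk I 1 from rfl, TensorProduct.quotTensorEquivQuotSMul_mk_tmul,
        one_smul, Submodule.Quotient.mk_eq_zero, show I = Ideal.span {(algebraMap (PowerSeries k) B PowerSeries.X) ^ n} from rfl,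
        Submodule.ideal_span_singleton_smul] at h
      obtain ⟨t, -, ht⟩ := h
      obtain ⟨q, hq⟩ := (Submodule.mem_span_range_iff_exists_fun B).mp (hx ▸ Submodule.mem_top : t ∈ Submodule.span B (Set.range x))
      have hw' : ∑ j, (w j - (algebraMap (PowerSeries k) B PowerSeries.X) ^ n * q j) • x j = 0 := by
        rw [Finset.sum_congr rfl fun j _ => sub_smul _ _ _, Finset.sum_sub_distrib]
        simp only [mul_smul, ← Finset.smul_sum, hq]
        exact sub_eq_zero.mpr ht.symm
      obtain ⟨s, hs⟩ := (Submodule.mem_span_range_iff_exists_fun B).mp ((hrel _).mp hw')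
      refine (Submodule.mem_span_range_iff_exists_fun (B ⧸ Ideal.span {(algebraMap (PowerSeries k) B PowerSeries.X) ^ n})).mpr ⟨fun i => mk (s i), funext fun j => ?_⟩
      have h2 := congrArg mk (congrFun hs j)
      simp only [Finset.sum_apply, Pi.smul_apply, smul_eq_mul, map_sum, map_mul, map_sub,
        show mk ((algebraMap (PowerSeries k) B PowerSeries.X) ^ n) = 0 from Ideal.Quotient.eq_zero_iff_mem.mpr (Ideal.mem_span_singleton_self _),
        zero_mul, sub_zero] at h2 ⊢
      exact h2
    · rintro _ ⟨i, rfl⟩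
      show G (fun j => mk (row j i)) = 0
      rw [hGt, (hrel _).mpr (Submodule.subset_span ⟨i, rfl⟩), TensorProduct.tmul_zero]
  exact ⟨(G.quotKerEquivOfSurjective hG).symm ≪≫ₗ Submodule.quotEquivOfEq _ _ hkerFG ≪≫ₗ
    F.quotKerEquivOfSurjective hF⟩

end Groth.Agent.FittFormal
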