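import Groth.Agent.S16187
import Mathlib.RingTheory.AdicCompletion.Completeness
import Mathlib.RingTheory.AdicCompletion.Noetherian
import Mathlib.RingTheory.AdicCompletion.Functoriality
import Mathlib.RingTheory.AdicCompletion.Algebra
import Mathlib.RingTheory.PowerSeries.Inverse
import Mathlib.RingTheory.Regular.RegularSequence

/-!
# The conormal presentation of the completed differentials of a formal complete intersection
-/

set_option autoImplicit false

universe u

open KaehlerDifferential

namespace Groth.Agent.FittFormal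

section

variable {k : Type u} [Field k] {r c : ℕ}

lemma mem_span_pow (n : ℕ) (p : (MvPolynomial (Fin r) (PowerSeries k))) :
    p ∈ ((Ideal.span {MvPolynomial.C (σ := Fin r) (PowerSeries.X (R := k))}) : Ideal (MvPolynomial (Fin r) (PowerSeries k))) ^ n ↔ MvPolynomial.C ((PowerSeries.X : (PowerSeries k)) ^ n) ∣ p := by
  rw [Ideal.span_singleton_pow, Ideal.mem_span_singleton, ← map_pow]

lemma algebraMap_C (s : (PowerSeries k)) :
    algebraMap (MvPolynomial (Fin r) (PowerSeries k)) (AdicCompletion (Ideal.span {MvPolynomial.C (σ := Fin r) (PowerSeries.X (R := k))}) (MvPolynomial (Fin r) (PowerSeries k))) (MvPolynomial.C s) = algebraMap (PowerSeries k) (AdicCompletion (Ideal.span {MvPolynomial.C (σ := Fin r) (PowerSeries.X (R := k))}) (MvPolynomial (Fin r) (PowerSeries k))) s :=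
  (IsScalarTower.algebraMap_apply (PowerSeries k) (MvPolynomial (Fin r) (PowerSeries k)) (AdicCompletion (Ideal.span {MvPolynomial.C (σ := Fin r) (PowerSeries.X (R := k))}) (MvPolynomial (Fin r) (PowerSeries k))) s).symm

/-- Polynomials approximate restricted power series. -/
lemma exists_approx (x : (AdicCompletion (Ideal.span {MvPolynomial.C (σ := Fin r) (PowerSeries.X (R := k))}) (MvPolynomial (Fin r) (PowerSeries k)))) (n : ℕ) :
    ∃ p : (MvPolynomial (Fin r) (PowerSeries k)), x - algebraMap (MvPolynomial (Fin r) (PowerSeries k)) (AdicCompletion (Ideal.span {MvPolynomial.C (σ := Fin r) (PowerSeries.X (R := k))}) (MvPolynomial (Fin r) (PowerSeries k))) p ∈ Ideal.span {(algebraMap (PowerSeries k) (AdicCompletion (Ideal.span {MvPolynomial.C (σ := Fin r) (PowerSeries.X (R := k))}) (MvPolynomial (Fin r) (PowerSeries k))) PowerSeries.X) ^ n} := by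
  obtain ⟨p, hp⟩ := Submodule.Quotient.mk_surjective _ (AdicCompletion.eval (Ideal.span {MvPolynomial.C (σ := Fin r) (PowerSeries.X (R := k))}) (MvPolynomial (Fin r) (PowerSeries k)) n x)
  refine ⟨p, ?_⟩
  have h1 : x - algebraMap (MvPolynomial (Fin r) (PowerSeries k)) (AdicCompletion (Ideal.span {MvPolynomial.C (σ := Fin r) (PowerSeries.X (R := k))}) (MvPolynomial (Fin r) (PowerSeries k))) p ∈ LinearMap.ker (AdicCompletion.eval (Ideal.span {MvPolynomial.C (σ := Fin r) (PowerSeries.X (R := k))}) (MvPolynomial (Fin r) (PowerSeries k)) n) := by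
    rw [LinearMap.mem_ker, map_sub, sub_eq_zero, ← hp]
    rfl
  rw [← AdicCompletion.pow_smul_top_eq_ker_eval (Submodule.fg_span_singleton _)] at h1
  refine Submodule.smul_induction_on h1 (fun q hq y _ => ?_) (fun _ _ => Ideal.add_mem _)
  obtain ⟨w, rfl⟩ := (mem_span_pow n q).mp hq
  rw [← algebraMap_smul (AdicCompletion (Ideal.span {MvPolynomial.C (σ := Fin r) (PowerSeries.X (R := k))}) (MvPolynomial (Fin r) (PowerSeries k))), smul_eq_mul, map_mul, algebraMap_C, map_pow, mul_assoc]
  exact Ideal.mul_mem_right _ _ (Ideal.mem_span_singleton_self _)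

lemma dvd_of_approx (p : (MvPolynomial (Fin r) (PowerSeries k))) (n : ℕ) (h : algebraMap (MvPolynomial (Fin r) (PowerSeries k)) (AdicCompletion (Ideal.span {MvPolynomial.C (σ := Fin r) (PowerSeries.X (R := k))}) (MvPolynomial (Fin r) (PowerSeries k))) p ∈ Ideal.span {(algebraMap (PowerSeries k) (AdicCompletion (Ideal.span {MvPolynomial.C (σ := Fin r) (PowerSeries.X (R := k))}) (MvPolynomial (Fin r) (PowerSeries k))) PowerSeries.X) ^ n}) :
    MvPolynomial.C ((PowerSeries.X : (PowerSeries k)) ^ n) ∣ p := by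
  rw [← algebraMap_C, ← map_pow] at h
  obtain ⟨y, hy⟩ := Ideal.mem_span_singleton.mp h
  have h2 : AdicCompletion.eval (Ideal.span {MvPolynomial.C (σ := Fin r) (PowerSeries.X (R := k))}) (MvPolynomial (Fin r) (PowerSeries k)) n (algebraMap (MvPolynomial (Fin r) (PowerSeries k)) (AdicCompletion (Ideal.span {MvPolynomial.C (σ := Fin r) (PowerSeries.X (R := k))}) (MvPolynomial (Fin r) (PowerSeries k))) p) = 0 := by
    rw [← LinearMap.mem_ker]
    refine AdicCompletion.pow_smul_top_le_ker_eval (Ideal.span {MvPolynomial.C (σ := Fin r) (PowerSeries.X (R := k))}) n ?_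
    rw [hy, ← Algebra.smul_def]
    exact Submodule.smul_mem_smul (Ideal.pow_mem_pow (Ideal.mem_span_singleton_self _) n) trivial
  have h3 : (Submodule.Quotient.mk p : (MvPolynomial (Fin r) (PowerSeries k)) ⧸ ((Ideal.span {MvPolynomial.C (σ := Fin r) (PowerSeries.X (R := k))}) ^ n • ⊤ : Submodule (MvPolynomial (Fin r) (PowerSeries k)) (MvPolynomial (Fin r) (PowerSeries k)))) = 0 := h2
  rw [Submodule.Quotient.mk_eq_zero, Ideal.smul_eq_mul, Ideal.mul_top] at h3
  exact (mem_span_pow n p).mp h3

variable {B : Type u} [CommRing B] [Algebra (PowerSeries k) B] (ψ : (AdicCompletion (Ideal.span {MvPolynomial.C (σ := Fin r) (PowerSeries.X (R := k))}) (MvPolynomial (Fin r) (PowerSeries k))) →ₐ[(PowerSeries k)] B)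

/-- The map from polynomials. -/
noncomputable def pol : (MvPolynomial (Fin r) (PowerSeries k)) →ₐ[(PowerSeries k)] B := ψ.comp (IsScalarTower.toAlgHom (PowerSeries k) (MvPolynomial (Fin r) (PowerSeries k)) (AdicCompletion (Ideal.span {MvPolynomial.C (σ := Fin r) (PowerSeries.X (R := k))}) (MvPolynomial (Fin r) (PowerSeries k))))

lemma pol_apply (p : (MvPolynomial (Fin r) (PowerSeries k))) : pol ψ p = ψ (algebraMap (MvPolynomial (Fin r) (PowerSeries k)) (AdicCompletion (Ideal.span {MvPolynomial.C (σ := Fin r) (PowerSeries.X (R := k))}) (MvPolynomial (Fin r) (PowerSeries k))) p) := rfl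

lemma psi_t_pow (n : ℕ) (y : (AdicCompletion (Ideal.span {MvPolynomial.C (σ := Fin r) (PowerSeries.X (R := k))}) (MvPolynomial (Fin r) (PowerSeries k)))) : ψ ((algebraMap (PowerSeries k) (AdicCompletion (Ideal.span {MvPolynomial.C (σ := Fin r) (PowerSeries.X (R := k))}) (MvPolynomial (Fin r) (PowerSeries k))) PowerSeries.X) ^ n * y) = (algebraMap (PowerSeries k) B PowerSeries.X) ^ n * ψ y := by
  rw [map_mul, map_pow, AlgHom.commutes]

/-- The gradient. -/
noncomputable def grad (p : (MvPolynomial (Fin r) (PowerSeries k))) : Fin r → B := fun i => pol ψ (MvPolynomial.pderiv i p)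

lemma grad_add (p q : (MvPolynomial (Fin r) (PowerSeries k))) : grad ψ (p + q) = grad ψ p + grad ψ q := by
  funext i; simp [grad]

lemma grad_mul (p q : (MvPolynomial (Fin r) (PowerSeries k))) : grad ψ (p * q) = pol ψ p • grad ψ q + pol ψ q • grad ψ p := by
  funext i; simp [grad]

lemma grad_C_mul (s : (PowerSeries k)) (p : (MvPolynomial (Fin r) (PowerSeries k))) : grad ψ (MvPolynomial.C s * p) = algebraMap (PowerSeries k) B s • grad ψ p := by
  funext i
  show pol ψ _ = algebraMap (PowerSeries k) B s * pol ψ _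
  rw [MvPolynomial.pderiv_C_mul, map_mul, ← MvPolynomial.algebraMap_eq, AlgHom.commutes]

lemma grad_X (i : Fin r) : grad ψ (MvPolynomial.X i) = Pi.single i 1 := by
  classical
  funext j
  simp [grad, MvPolynomial.pderiv_X, Pi.single_apply, eq_comm]

/-- The values of a differential on polynomials. -/
lemma D_pol (p : (MvPolynomial (Fin r) (PowerSeries k))) :
    D (PowerSeries k) B (pol ψ p) = ∑ i, grad ψ p i • D (PowerSeries k) B (pol ψ (MvPolynomial.X i)) := by
  classical
  induction p using MvPolynomial.induction_on with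
  | C s =>
    rw [← MvPolynomial.algebraMap_eq, AlgHom.commutes, Derivation.map_algebraMap]
    simp [grad, MvPolynomial.algebraMap_eq]
  | add p q hp hq =>
    rw [map_add, map_add, hp, hq, ← Finset.sum_add_distrib]
    simp [grad_add, add_smul]
  | mul_X p j hp =>
    rw [map_mul, Derivation.leibniz, hp]
    simp only [grad_mul, Pi.add_apply, Pi.smul_apply, smul_eq_mul, add_smul, Finset.sum_add_distrib,
      mul_smul, ← Finset.smul_sum]
    congr 1
    congr 1
    simp [grad_X, Pi.single_apply]

variable (a : Fin c → (AdicCompletion (Ideal.span {MvPolynomial.C (σ := Fin r) (PowerSeries.X (R := k))}) (MvPolynomial (Fin r) (PowerSeries k))))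

lemma exists_jac [IsAdicComplete (Ideal.span {(algebraMap (PowerSeries k) B PowerSeries.X)}) B] (j : Fin c) (i : Fin r) :
    ∃ L : B, ∀ (n : ℕ) (p : (MvPolynomial (Fin r) (PowerSeries k))), a j - algebraMap (MvPolynomial (Fin r) (PowerSeries k)) (AdicCompletion (Ideal.span {MvPolynomial.C (σ := Fin r) (PowerSeries.X (R := k))}) (MvPolynomial (Fin r) (PowerSeries k))) p ∈ Ideal.span {(algebraMap (PowerSeries k) (AdicCompletion (Ideal.span {MvPolynomial.C (σ := Fin r) (PowerSeries.X (R := k))}) (MvPolynomial (Fin r) (PowerSeries k))) PowerSeries.X) ^ n} →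
      pol ψ (MvPolynomial.pderiv i p) - L ∈ Ideal.span {(algebraMap (PowerSeries k) B PowerSeries.X) ^ n} := by
  choose p hp using fun n => exists_approx (a j) n
  have key : ∀ (m : ℕ) (q q' : (MvPolynomial (Fin r) (PowerSeries k))), a j - algebraMap (MvPolynomial (Fin r) (PowerSeries k)) (AdicCompletion (Ideal.span {MvPolynomial.C (σ := Fin r) (PowerSeries.X (R := k))}) (MvPolynomial (Fin r) (PowerSeries k))) q ∈ Ideal.span {(algebraMap (PowerSeries k) (AdicCompletion (Ideal.span {MvPolynomial.C (σ := Fin r) (PowerSeries.X (R := k))}) (MvPolynomial (Fin r) (PowerSeries k))) PowerSeries.X) ^ m} →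
      a j - algebraMap (MvPolynomial (Fin r) (PowerSeries k)) (AdicCompletion (Ideal.span {MvPolynomial.C (σ := Fin r) (PowerSeries.X (R := k))}) (MvPolynomial (Fin r) (PowerSeries k))) q' ∈ Ideal.span {(algebraMap (PowerSeries k) (AdicCompletion (Ideal.span {MvPolynomial.C (σ := Fin r) (PowerSeries.X (R := k))}) (MvPolynomial (Fin r) (PowerSeries k))) PowerSeries.X) ^ m} →
      pol ψ (MvPolynomial.pderiv i q) - pol ψ (MvPolynomial.pderiv i q') ∈ Ideal.span {(algebraMap (PowerSeries k) B PowerSeries.X) ^ m} := by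
    intro m q q' h h'
    have h3 : algebraMap (MvPolynomial (Fin r) (PowerSeries k)) (AdicCompletion (Ideal.span {MvPolynomial.C (σ := Fin r) (PowerSeries.X (R := k))}) (MvPolynomial (Fin r) (PowerSeries k))) (q - q') ∈ Ideal.span {(algebraMap (PowerSeries k) (AdicCompletion (Ideal.span {MvPolynomial.C (σ := Fin r) (PowerSeries.X (R := k))}) (MvPolynomial (Fin r) (PowerSeries k))) PowerSeries.X) ^ m} := by
      have := Ideal.sub_mem _ h' h
      rwa [sub_sub_sub_cancel_left, ← map_sub] at this
    obtain ⟨w, hw⟩ := dvd_of_approx _ m h3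
    rw [← map_sub, ← map_sub, hw, MvPolynomial.pderiv_C_mul, map_mul, ← MvPolynomial.algebraMap_eq,
      AlgHom.commutes, map_pow]
    exact Ideal.mul_mem_right _ _ (Ideal.mem_span_singleton_self _)
  have hle : ∀ m n : ℕ, m ≤ n → Ideal.span {(algebraMap (PowerSeries k) (AdicCompletion (Ideal.span {MvPolynomial.C (σ := Fin r) (PowerSeries.X (R := k))}) (MvPolynomial (Fin r) (PowerSeries k))) PowerSeries.X) ^ n} ≤ Ideal.span {(algebraMap (PowerSeries k) (AdicCompletion (Ideal.span {MvPolynomial.C (σ := Fin r) (PowerSeries.X (R := k))}) (MvPolynomial (Fin r) (PowerSeries k))) PowerSeries.X) ^ m} := fun m n h =>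
    Ideal.span_singleton_le_span_singleton.mpr (pow_dvd_pow _ h)
  obtain ⟨L, hL⟩ := IsPrecomplete.prec (IsAdicComplete.toIsPrecomplete (I := Ideal.span {(algebraMap (PowerSeries k) B PowerSeries.X)}) (M := B))
    (f := fun n => pol ψ (MvPolynomial.pderiv i (p n))) (fun {m n} h => by
      rw [SModEq.sub_mem, Ideal.smul_eq_mul, Ideal.mul_top, Ideal.span_singleton_pow]
      exact key m _ _ (hp m) (hle m n h (hp n)))
  refine ⟨L, fun n q hq => ?_⟩
  have h1 := hL n
  rw [SModEq.sub_mem, Ideal.smul_eq_mul, Ideal.mul_top, Ideal.span_singleton_pow] at h1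
  have := Ideal.add_mem _ (key n q (p n) hq (hp n)) h1
  rwa [sub_add_sub_cancel] at this

/-- The generators of the completed differentials. -/
noncomputable def gen (i : Fin r) : AdicCompletion (Ideal.span {(algebraMap (PowerSeries k) B PowerSeries.X)}) Ω[B⁄(PowerSeries k)] :=
  AdicCompletion.of _ _ (D (PowerSeries k) B (pol ψ (MvPolynomial.X i)))

lemma eval_gen (v : Fin r → B) (n : ℕ) :
    AdicCompletion.eval (Ideal.span {(algebraMap (PowerSeries k) B PowerSeries.X)}) Ω[B⁄(PowerSeries k)] n (Fintype.linearCombination B (gen ψ) v) =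
      Submodule.Quotient.mk (∑ i, v i • D (PowerSeries k) B (pol ψ (MvPolynomial.X i))) := by
  rw [Fintype.linearCombination_apply, map_sum, ← Submodule.mkQ_apply, map_sum]
  refine Finset.sum_congr rfl fun i _ => ?_
  rw [map_smul, map_smul]
  rfl

lemma mem_smul_top_of_mul {M : Type u} [AddCommGroup M] [Module B M] (n : ℕ) {b : B} (hb : b ∈ Ideal.span {(algebraMap (PowerSeries k) B PowerSeries.X) ^ n})
    (x : M) : b • x ∈ (Ideal.span {(algebraMap (PowerSeries k) B PowerSeries.X)} ^ n • ⊤ : Submodule B M) := by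
  rw [Ideal.span_singleton_pow]
  exact Submodule.smul_mem_smul hb trivial

lemma D_mem_smul_top (n : ℕ) {b : B} (hb : b ∈ Ideal.span {(algebraMap (PowerSeries k) B PowerSeries.X) ^ n}) :
    D (PowerSeries k) B b ∈ (Ideal.span {(algebraMap (PowerSeries k) B PowerSeries.X)} ^ n • ⊤ : Submodule B Ω[B⁄(PowerSeries k)]) := by
  obtain ⟨b', rfl⟩ := Ideal.mem_span_singleton.mp hb
  rw [Derivation.leibniz, ← map_pow, Derivation.map_algebraMap, smul_zero, add_zero, map_pow]
  exact mem_smul_top_of_mul n (Ideal.mem_span_singleton_self _) _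

lemma pol_mem (hker : RingHom.ker ψ.toRingHom = Ideal.span (Set.range a)) (j : Fin c) (n : ℕ) (p : (MvPolynomial (Fin r) (PowerSeries k)))
    (hp : a j - algebraMap (MvPolynomial (Fin r) (PowerSeries k)) (AdicCompletion (Ideal.span {MvPolynomial.C (σ := Fin r) (PowerSeries.X (R := k))}) (MvPolynomial (Fin r) (PowerSeries k))) p ∈ Ideal.span {(algebraMap (PowerSeries k) (AdicCompletion (Ideal.span {MvPolynomial.C (σ := Fin r) (PowerSeries.X (R := k))}) (MvPolynomial (Fin r) (PowerSeries k))) PowerSeries.X) ^ n}) : pol ψ p ∈ Ideal.span {(algebraMap (PowerSeries k) B PowerSeries.X) ^ n} := by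
  obtain ⟨y, hy⟩ := Ideal.mem_span_singleton.mp hp
  have h0 : ψ (a j) = 0 :=
    RingHom.mem_ker.mp (hker ▸ Ideal.subset_span ⟨j, rfl⟩ : a j ∈ RingHom.ker ψ.toRingHom)
  rw [pol_apply, show algebraMap (MvPolynomial (Fin r) (PowerSeries k)) (AdicCompletion (Ideal.span {MvPolynomial.C (σ := Fin r) (PowerSeries.X (R := k))}) (MvPolynomial (Fin r) (PowerSeries k))) p = a j - (algebraMap (PowerSeries k) (AdicCompletion (Ideal.span {MvPolynomial.C (σ := Fin r) (PowerSeries.X (R := k))}) (MvPolynomial (Fin r) (PowerSeries k))) PowerSeries.X) ^ n * y by rw [← hy]; abel, map_sub, h0, psi_t_pow, zero_sub]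
  exact (Ideal.neg_mem_iff _).mpr (Ideal.mul_mem_right _ _ (Ideal.mem_span_singleton_self _))

variable (hψ : Function.Surjective ψ) (hker : RingHom.ker ψ.toRingHom = Ideal.span (Set.range a))

include hψ in
lemma exists_lift (b : B) (n : ℕ) : ∃ p : (MvPolynomial (Fin r) (PowerSeries k)), pol ψ p - b ∈ Ideal.span {(algebraMap (PowerSeries k) B PowerSeries.X) ^ n} := by
  obtain ⟨x, rfl⟩ := hψ b
  obtain ⟨p, hp⟩ := exists_approx x n
  obtain ⟨y, hy⟩ := Ideal.mem_span_singleton.mp hp
  refine ⟨p, ?_⟩
  rw [pol_apply, ← neg_sub, ← map_sub, hy, psi_t_pow]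
  exact (Ideal.neg_mem_iff _).mpr (Ideal.mul_mem_right _ _ (Ideal.mem_span_singleton_self _))

include hψ in
lemma surjective_gen [IsAdicComplete (Ideal.span {(algebraMap (PowerSeries k) B PowerSeries.X)}) B] :
    Function.Surjective (Fintype.linearCombination B (gen ψ)) := by
  haveI : IsPrecomplete (Ideal.span {(algebraMap (PowerSeries k) B PowerSeries.X)}) (Fin r → B) := inferInstance
  refine surjective_of_mkQ_comp_surjective (I := Ideal.span {(algebraMap (PowerSeries k) B PowerSeries.X)}) fun y => ?_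
  obtain ⟨z, rfl⟩ := Submodule.Quotient.mk_surjective _ y
  obtain ⟨ω, hω⟩ := Submodule.Quotient.mk_surjective _ (AdicCompletion.eval (Ideal.span {(algebraMap (PowerSeries k) B PowerSeries.X)}) Ω[B⁄(PowerSeries k)] 1 z)
  have hspan : (⊤ : Submodule B Ω[B⁄(PowerSeries k)]) ≤
      LinearMap.range (Fintype.linearCombination B fun i => D (PowerSeries k) B (pol ψ (MvPolynomial.X i))) ⊔
      (Ideal.span {(algebraMap (PowerSeries k) B PowerSeries.X)} ^ 1 • ⊤ : Submodule B Ω[B⁄(PowerSeries k)]) := by
    refine (span_range_derivation (PowerSeries k) B).ge.trans (Submodule.span_le.mpr ?_)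
    rintro _ ⟨b, rfl⟩
    obtain ⟨p, hp⟩ := exists_lift ψ hψ b 1
    rw [show b = pol ψ p - (pol ψ p - b) by abel, map_sub]
    refine Submodule.sub_mem _ (Submodule.mem_sup_left ⟨grad ψ p, ?_⟩) (Submodule.mem_sup_right (D_mem_smul_top 1 hp))
    rw [Fintype.linearCombination_apply, D_pol]
  obtain ⟨_, ⟨v, rfl⟩, e, he, hve⟩ := Submodule.mem_sup.mp (hspan (show ω ∈ (⊤ : Submodule B Ω[B⁄(PowerSeries k)]) from trivial))
  refine ⟨v, ?_⟩
  rw [LinearMap.comp_apply, Submodule.mkQ_apply, Submodule.Quotient.eq]
  have hker1 : Fintype.linearCombination B (gen ψ) v - z ∈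
      LinearMap.ker (AdicCompletion.eval (Ideal.span {(algebraMap (PowerSeries k) B PowerSeries.X)}) Ω[B⁄(PowerSeries k)] 1) := by
    rw [LinearMap.mem_ker, map_sub, eval_gen, ← hω, sub_eq_zero, Submodule.Quotient.eq, ← hve,
      Fintype.linearCombination_apply, sub_add_cancel_left]
    exact Submodule.neg_mem _ he
  rw [← AdicCompletion.pow_smul_top_eq_ker_eval (Submodule.fg_span_singleton _), pow_one] at hker1
  exact hker1

variable (row : Fin c → Fin r → B)
  (hrow : ∀ (j : Fin c) (i : Fin r) (n : ℕ) (p : (MvPolynomial (Fin r) (PowerSeries k))), a j - algebraMap (MvPolynomial (Fin r) (PowerSeries k)) (AdicCompletion (Ideal.span {MvPolynomial.C (σ := Fin r) (PowerSeries.X (R := k))}) (MvPolynomial (Fin r) (PowerSeries k))) p ∈ Ideal.span {(algebraMap (PowerSeries k) (AdicCompletion (Ideal.span {MvPolynomial.C (σ := Fin r) (PowerSeries.X (R := k))}) (MvPolynomial (Fin r) (PowerSeries k))) PowerSeries.X) ^ n} →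
    pol ψ (MvPolynomial.pderiv i p) - row j i ∈ Ideal.span {(algebraMap (PowerSeries k) B PowerSeries.X) ^ n})

/-- Relations modulo a power of the parameter. -/
def relN (n : ℕ) : Submodule B (Fin r → B) :=
  LinearMap.range (Fintype.linearCombination B row) ⊔ Ideal.span {(algebraMap (PowerSeries k) B PowerSeries.X)} ^ n • ⊤

lemma mem_smul_top_pi (n : ℕ) (v : Fin r → B) (h : ∀ i, v i ∈ Ideal.span {(algebraMap (PowerSeries k) B PowerSeries.X) ^ n}) :
    v ∈ (Ideal.span {(algebraMap (PowerSeries k) B PowerSeries.X)} ^ n • ⊤ : Submodule B (Fin r → B)) := by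
  rw [pi_eq_sum_univ' v]
  exact Submodule.sum_mem _ fun i _ => mem_smul_top_of_mul n (h i) _

include hψ hker hrow in
lemma grad_mem (n : ℕ) (p : (MvPolynomial (Fin r) (PowerSeries k))) (hp : pol ψ p ∈ Ideal.span {(algebraMap (PowerSeries k) B PowerSeries.X) ^ n}) : grad ψ p ∈ relN (k := k) row n := by
  classical
  obtain ⟨b, hb⟩ := Ideal.mem_span_singleton.mp hp
  obtain ⟨y, rfl⟩ := hψ b
  have hmem : algebraMap (MvPolynomial (Fin r) (PowerSeries k)) (AdicCompletion (Ideal.span {MvPolynomial.C (σ := Fin r) (PowerSeries.X (R := k))}) (MvPolynomial (Fin r) (PowerSeries k))) p - (algebraMap (PowerSeries k) (AdicCompletion (Ideal.span {MvPolynomial.C (σ := Fin r) (PowerSeries.X (R := k))}) (MvPolynomial (Fin r) (PowerSeries k))) PowerSeries.X) ^ n * y ∈ RingHom.ker ψ.toRingHom := by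
    rw [RingHom.mem_ker]
    show ψ _ = 0
    rw [map_sub, ← pol_apply, hb, psi_t_pow, sub_self]
  rw [hker] at hmem
  obtain ⟨z, hz⟩ := (Submodule.mem_span_range_iff_exists_fun (AdicCompletion (Ideal.span {MvPolynomial.C (σ := Fin r) (PowerSeries.X (R := k))}) (MvPolynomial (Fin r) (PowerSeries k)))).mp hmem
  choose q hq using fun j => exists_approx (z j) n
  choose pj hpj using fun j => exists_approx (a j) n
  have h2 : algebraMap (MvPolynomial (Fin r) (PowerSeries k)) (AdicCompletion (Ideal.span {MvPolynomial.C (σ := Fin r) (PowerSeries.X (R := k))}) (MvPolynomial (Fin r) (PowerSeries k))) (p - ∑ j, q j * pj j) ∈ Ideal.span {(algebraMap (PowerSeries k) (AdicCompletion (Ideal.span {MvPolynomial.C (σ := Fin r) (PowerSeries.X (R := k))}) (MvPolynomial (Fin r) (PowerSeries k))) PowerSeries.X) ^ n} := by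
    rw [← Ideal.Quotient.eq_zero_iff_mem]
    have e : algebraMap (MvPolynomial (Fin r) (PowerSeries k)) (AdicCompletion (Ideal.span {MvPolynomial.C (σ := Fin r) (PowerSeries.X (R := k))}) (MvPolynomial (Fin r) (PowerSeries k))) p = ∑ j, z j * a j + (algebraMap (PowerSeries k) (AdicCompletion (Ideal.span {MvPolynomial.C (σ := Fin r) (PowerSeries.X (R := k))}) (MvPolynomial (Fin r) (PowerSeries k))) PowerSeries.X) ^ n * y := by
      rw [← sub_eq_iff_eq_add]; exact hz.symm
    rw [map_sub, map_sub, e, map_add, map_sum, map_sum, map_sum]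
    simp only [map_mul, Ideal.Quotient.eq.mpr (hq _), Ideal.Quotient.eq.mpr (hpj _)]
    rw [Ideal.Quotient.eq_zero_iff_mem.mpr (Ideal.mem_span_singleton_self ((algebraMap (PowerSeries k) (AdicCompletion (Ideal.span {MvPolynomial.C (σ := Fin r) (PowerSeries.X (R := k))}) (MvPolynomial (Fin r) (PowerSeries k))) PowerSeries.X) ^ n)), zero_mul, add_zero, sub_self]
  obtain ⟨w, hw⟩ := dvd_of_approx _ n h2
  have hp' : p = (∑ j, q j * pj j) + MvPolynomial.C ((PowerSeries.X : (PowerSeries k)) ^ n) * w := by rw [← hw]; abel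
  have hsum : ∀ (s : Finset (Fin c)), (∀ j, grad ψ (q j * pj j) ∈ relN (k := k) row n) →
      grad ψ (∑ j ∈ s, q j * pj j) ∈ relN (k := k) row n := by
    intro s hs
    induction s using Finset.induction_on with
    | empty =>
      rw [Finset.sum_empty, show grad ψ (0 : (MvPolynomial (Fin r) (PowerSeries k))) = 0 by funext i; simp [grad]]
      exact zero_mem _
    | insert j s hj ih => rw [Finset.sum_insert hj, grad_add]; exact add_mem (hs j) ih
  rw [hp', grad_add, grad_C_mul]
  refine add_mem (hsum _ fun j => ?_) (Submodule.mem_sup_right (mem_smul_top_of_mul n ?_ _))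
  · rw [grad_mul]
    refine add_mem (Submodule.smul_mem _ _ ?_)
      (Submodule.mem_sup_right (mem_smul_top_of_mul n (pol_mem ψ a hker j n _ (hpj j)) _))
    rw [show grad ψ (pj j) = row j + (grad ψ (pj j) - row j) by abel]
    refine add_mem (Submodule.mem_sup_left ⟨Pi.single j 1, ?_⟩)
      (Submodule.mem_sup_right (mem_smul_top_pi n _ fun i => hrow j i n _ (hpj j)))
    rw [Fintype.linearCombination_apply_single, one_smul]
  · rw [map_pow]; exact Ideal.mem_span_singleton_self _

include hψ hker hrow in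
/-- The derivation into the cokernel of the Jacobian, modulo a power of the parameter. -/
lemma exists_derivation (n : ℕ) :
    ∃ d : Derivation (PowerSeries k) B ((Fin r → B) ⧸ relN (k := k) row n), ∀ p : (MvPolynomial (Fin r) (PowerSeries k)), d (pol ψ p) = Submodule.Quotient.mk (grad ψ p) := by
  choose l hl using fun b => exists_lift ψ hψ b n
  let f : B → (Fin r → B) ⧸ relN (k := k) row n := fun b => Submodule.Quotient.mk (grad ψ (l b))
  have hf : ∀ (b : B) (p : (MvPolynomial (Fin r) (PowerSeries k))), pol ψ p - b ∈ Ideal.span {(algebraMap (PowerSeries k) B PowerSeries.X) ^ n} → f b = Submodule.Quotient.mk (grad ψ p) := by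
    intro b p hp
    have h := Ideal.sub_mem _ (hl b) hp
    rw [sub_sub_sub_cancel_right, ← map_sub] at h
    have h' := grad_mem ψ a hψ hker row hrow n _ h
    refine (Submodule.Quotient.eq _).mpr ?_
    convert h' using 1
    funext i; simp [grad]
  let L : B →ₗ[(PowerSeries k)] (Fin r → B) ⧸ relN (k := k) row n :=
    { toFun := f
      map_add' := fun x y => by
        rw [hf (x + y) (l x + l y) (by rw [map_add, add_sub_add_comm]; exact add_mem (hl x) (hl y)), grad_add]
        rfl
      map_smul' := fun s x => by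
        rw [RingHom.id_apply, hf (s • x) (MvPolynomial.C s * l x) (by
          rw [map_mul, ← MvPolynomial.algebraMap_eq, AlgHom.commutes, Algebra.smul_def, ← mul_sub]
          exact Ideal.mul_mem_left _ _ (hl x)), grad_C_mul, ← IsScalarTower.algebraMap_smul B s (f x)]
        rfl }
  refine ⟨Derivation.mk' L fun x y => ?_, fun p => hf _ p (by simp)⟩
  show f (x * y) = x • f y + y • f x
  rw [hf (x * y) (l x * l y) (by
    rw [map_mul, show pol ψ (l x) * pol ψ (l y) - x * y = (pol ψ (l x) - x) * pol ψ (l y) + x * (pol ψ (l y) - y) by ring]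
    exact add_mem (Ideal.mul_mem_right _ _ (hl x)) (Ideal.mul_mem_left _ _ (hl y))), grad_mul]
  show _ = Submodule.Quotient.mk (x • grad ψ (l y) + y • grad ψ (l x))
  refine (Submodule.Quotient.eq _).mpr (Submodule.mem_sup_right ?_)
  rw [add_sub_add_comm, ← sub_smul, ← sub_smul]
  exact add_mem (mem_smul_top_of_mul n (hl x) _) (mem_smul_top_of_mul n (hl y) _)

include hψ hker hrow in
lemma exact_gen [IsNoetherianRing B] [IsAdicComplete (Ideal.span {(algebraMap (PowerSeries k) B PowerSeries.X)}) B] :
    Function.Exact (Fintype.linearCombination B row) (Fintype.linearCombination B (gen ψ)) := by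
  classical
  intro v
  constructor
  · intro hv
    have h1 : ∀ n, v ∈ relN (k := k) row n := by
      intro n
      obtain ⟨d, hd⟩ := exists_derivation ψ a hψ hker row hrow n
      have h2 : ∑ i, v i • D (PowerSeries k) B (pol ψ (MvPolynomial.X i)) ∈ (Ideal.span {(algebraMap (PowerSeries k) B PowerSeries.X)} ^ n • ⊤ : Submodule B Ω[B⁄(PowerSeries k)]) := by
        rw [← Submodule.Quotient.mk_eq_zero, ← eval_gen, hv, map_zero]
      have h3 := Submodule.mem_map_of_mem (f := d.liftKaehlerDifferential) h2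
      rw [Submodule.map_smul''] at h3
      have h4 : (Ideal.span {(algebraMap (PowerSeries k) B PowerSeries.X)} ^ n • Submodule.map d.liftKaehlerDifferential ⊤) ≤ (⊥ : Submodule B ((Fin r → B) ⧸ relN (k := k) row n)) := by
        refine Submodule.smul_le.mpr fun b hb y _ => ?_
        obtain ⟨y, rfl⟩ := Submodule.Quotient.mk_surjective _ y
        rw [Submodule.mem_bot, ← Submodule.Quotient.mk_smul, Submodule.Quotient.mk_eq_zero]
        exact Submodule.mem_sup_right (Submodule.smul_mem_smul hb trivial)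
      have h5 := h4 h3
      rw [Submodule.mem_bot, map_sum] at h5
      rw [← Submodule.Quotient.mk_eq_zero, ← h5]
      conv_lhs => rw [pi_eq_sum_univ' v, ← Submodule.mkQ_apply, map_sum]
      refine Finset.sum_congr rfl fun i _ => ?_
      rw [map_smul, map_smul, Derivation.liftKaehlerDifferential_comp_D, hd, grad_X]
      rfl
    have h6 : Submodule.Quotient.mk (p := LinearMap.range (Fintype.linearCombination B row)) v ∈
        ⨅ n : ℕ, (Ideal.span {(algebraMap (PowerSeries k) B PowerSeries.X)} ^ n • ⊤ : Submodule B ((Fin r → B) ⧸ LinearMap.range (Fintype.linearCombination B row))) := by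
      refine (Submodule.mem_iInf _).mpr fun n => ?_
      obtain ⟨y, ⟨q, rfl⟩, e, he, hye⟩ := Submodule.mem_sup.mp (h1 n)
      have h7 := Submodule.mem_map_of_mem (f := (LinearMap.range (Fintype.linearCombination B row)).mkQ) he
      rw [Submodule.map_smul'', Submodule.map_top, Submodule.range_mkQ] at h7
      rw [show Submodule.Quotient.mk (p := LinearMap.range (Fintype.linearCombination B row)) v =
        Submodule.Quotient.mk e from (Submodule.Quotient.eq _).mpr (by rw [← hye, add_sub_cancel_right]; exact ⟨q, rfl⟩)]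
      exact h7
    rw [Ideal.iInf_pow_smul_eq_bot_of_le_jacobson _ (IsAdicComplete.le_jacobson_bot _), Submodule.mem_bot,
      Submodule.Quotient.mk_eq_zero] at h6
    exact h6
  · rintro ⟨q, rfl⟩
    refine AdicCompletion.ext fun n => ?_
    show AdicCompletion.eval (Ideal.span {(algebraMap (PowerSeries k) B PowerSeries.X)}) Ω[B⁄(PowerSeries k)] n _ = AdicCompletion.eval (Ideal.span {(algebraMap (PowerSeries k) B PowerSeries.X)}) Ω[B⁄(PowerSeries k)] n 0
    rw [map_zero, Fintype.linearCombination_apply B row q, map_sum, map_sum]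
    refine Finset.sum_eq_zero fun j _ => ?_
    rw [map_smul, map_smul, eval_gen]
    obtain ⟨p, hp⟩ := exists_approx (a j) n
    refine (congrArg (q j • ·) ((Submodule.Quotient.mk_eq_zero _).mpr ?_)).trans (smul_zero _)
    have e : ∑ i, row j i • D (PowerSeries k) B (pol ψ (MvPolynomial.X i)) =
        D (PowerSeries k) B (pol ψ p) - ∑ i, (pol ψ (MvPolynomial.pderiv i p) - row j i) • D (PowerSeries k) B (pol ψ (MvPolynomial.X i)) := by
      rw [D_pol]
      simp [grad, sub_smul]
    rw [e]
    exact sub_mem (D_mem_smul_top n (pol_mem ψ a hker j n p hp))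
      (Submodule.sum_mem _ fun i _ => mem_smul_top_of_mul n (hrow j i n p hp) _)

/-- The special fibre map on polynomials. -/
noncomputable def rho : (MvPolynomial (Fin r) (PowerSeries k)) →+* MvPolynomial (Fin r) k := MvPolynomial.map PowerSeries.constantCoeff

lemma rho_CX : rho (k := k) (r := r) (MvPolynomial.C PowerSeries.X) = 0 :=
  (MvPolynomial.map_C _ _).trans (by rw [PowerSeries.constantCoeff_X, map_zero])

/-- The special fibre map on restricted power series. -/
noncomputable def theta : (AdicCompletion (Ideal.span {MvPolynomial.C (σ := Fin r) (PowerSeries.X (R := k))}) (MvPolynomial (Fin r) (PowerSeries k))) →+* MvPolynomial (Fin r) k :=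
  (Ideal.Quotient.lift (Ideal.span {MvPolynomial.C (σ := Fin r) (PowerSeries.X (R := k))}) rho (fun p hp => by
    rw [← pow_one ((Ideal.span {MvPolynomial.C (σ := Fin r) (PowerSeries.X (R := k))}) : Ideal (MvPolynomial (Fin r) (PowerSeries k))), mem_span_pow] at hp
    obtain ⟨w, rfl⟩ := hp
    rw [map_mul, pow_one, rho_CX, zero_mul])).comp (AdicCompletion.evalOneₐ (Ideal.span {MvPolynomial.C (σ := Fin r) (PowerSeries.X (R := k))})).toRingHom

lemma theta_algebraMap (p : (MvPolynomial (Fin r) (PowerSeries k))) : theta (algebraMap (MvPolynomial (Fin r) (PowerSeries k)) (AdicCompletion (Ideal.span {MvPolynomial.C (σ := Fin r) (PowerSeries.X (R := k))}) (MvPolynomial (Fin r) (PowerSeries k))) p) = rho p := rfl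

lemma theta_t : theta (k := k) (r := r) (algebraMap (PowerSeries k) (AdicCompletion (Ideal.span {MvPolynomial.C (σ := Fin r) (PowerSeries.X (R := k))}) (MvPolynomial (Fin r) (PowerSeries k))) PowerSeries.X) = 0 := by
  rw [← algebraMap_C, theta_algebraMap, rho_CX]

lemma theta_surjective : Function.Surjective (theta (k := k) (r := r)) := fun q => by
  obtain ⟨p, hp⟩ := MvPolynomial.map_surjective (σ := Fin r) (PowerSeries.constantCoeff (R := k))
    (fun x => ⟨PowerSeries.C x, by simp⟩) q
  exact ⟨_, (theta_algebraMap p).trans hp⟩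

lemma theta_eq_zero_iff (x : (AdicCompletion (Ideal.span {MvPolynomial.C (σ := Fin r) (PowerSeries.X (R := k))}) (MvPolynomial (Fin r) (PowerSeries k)))) : theta x = 0 ↔ x ∈ Ideal.span {(algebraMap (PowerSeries k) (AdicCompletion (Ideal.span {MvPolynomial.C (σ := Fin r) (PowerSeries.X (R := k))}) (MvPolynomial (Fin r) (PowerSeries k))) PowerSeries.X) ^ 1} := by
  refine ⟨fun h => ?_, fun h => ?_⟩
  · obtain ⟨p, hp⟩ := exists_approx x 1
    have hρ : rho p = 0 := by
      obtain ⟨y, hy⟩ := Ideal.mem_span_singleton.mp hp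
      rw [← theta_algebraMap, show algebraMap (MvPolynomial (Fin r) (PowerSeries k)) (AdicCompletion (Ideal.span {MvPolynomial.C (σ := Fin r) (PowerSeries.X (R := k))}) (MvPolynomial (Fin r) (PowerSeries k))) p = x - (algebraMap (PowerSeries k) (AdicCompletion (Ideal.span {MvPolynomial.C (σ := Fin r) (PowerSeries.X (R := k))}) (MvPolynomial (Fin r) (PowerSeries k))) PowerSeries.X) ^ 1 * y by rw [← hy]; abel, map_sub, h, map_mul,
        pow_one, theta_t, zero_mul, sub_zero]
    have hdvd : MvPolynomial.C (PowerSeries.X : (PowerSeries k)) ∣ p := (MvPolynomial.C_dvd_iff_dvd_coeff _ _).mpr fun m =>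
      PowerSeries.X_dvd_iff.mpr (by
        rw [← MvPolynomial.coeff_map]
        exact (congrArg (MvPolynomial.coeff m) hρ).trans (MvPolynomial.coeff_zero m))
    obtain ⟨w, rfl⟩ := hdvd
    rw [show x = (x - algebraMap (MvPolynomial (Fin r) (PowerSeries k)) (AdicCompletion (Ideal.span {MvPolynomial.C (σ := Fin r) (PowerSeries.X (R := k))}) (MvPolynomial (Fin r) (PowerSeries k))) (MvPolynomial.C PowerSeries.X * w)) +
      algebraMap (MvPolynomial (Fin r) (PowerSeries k)) (AdicCompletion (Ideal.span {MvPolynomial.C (σ := Fin r) (PowerSeries.X (R := k))}) (MvPolynomial (Fin r) (PowerSeries k))) (MvPolynomial.C PowerSeries.X * w) by abel]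
    refine add_mem hp ?_
    rw [map_mul, algebraMap_C, pow_one]
    exact Ideal.mul_mem_right _ _ (Ideal.mem_span_singleton_self _)
  · obtain ⟨y, rfl⟩ := Ideal.mem_span_singleton.mp h
    rw [map_mul, pow_one, theta_t, zero_mul]

include hψ hker hrow in
lemma injective_row [PerfectField k] [Module.Flat (PowerSeries k) B] [IsAdicComplete (Ideal.span {(algebraMap (PowerSeries k) B PowerSeries.X)}) B]
    [IsReduced (B ⧸ Ideal.span {algebraMap (PowerSeries k) B PowerSeries.X})]
    (hreg : RingTheory.Sequence.IsRegular ((AdicCompletion (Ideal.span {MvPolynomial.C (σ := Fin r) (PowerSeries.X (R := k))}) (MvPolynomial (Fin r) (PowerSeries k))) ⧸ Ideal.span {(algebraMap (PowerSeries k) (AdicCompletion (Ideal.span {MvPolynomial.C (σ := Fin r) (PowerSeries.X (R := k))}) (MvPolynomial (Fin r) (PowerSeries k))) PowerSeries.X) ^ 1})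
      ((List.ofFn a).map (Ideal.Quotient.mk (Ideal.span {(algebraMap (PowerSeries k) (AdicCompletion (Ideal.span {MvPolynomial.C (σ := Fin r) (PowerSeries.X (R := k))}) (MvPolynomial (Fin r) (PowerSeries k))) PowerSeries.X) ^ 1})))) :
    Function.Injective (Fintype.linearCombination B row) ∧ c ≤ r := by
  classical
  let mk₀ : B →+* (B ⧸ Ideal.span {algebraMap (PowerSeries k) B PowerSeries.X}) := Ideal.Quotient.mk _
  have hX : mk₀ (algebraMap (PowerSeries k) B PowerSeries.X) = 0 := Ideal.Quotient.eq_zero_iff_mem.mpr (Ideal.mem_span_singleton_self _)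
  letI : Algebra k (B ⧸ Ideal.span {algebraMap (PowerSeries k) B PowerSeries.X}) := ((mk₀.comp (algebraMap (PowerSeries k) B)).comp PowerSeries.C).toAlgebra
  let φ₀ : MvPolynomial (Fin r) k →+* (B ⧸ Ideal.span {algebraMap (PowerSeries k) B PowerSeries.X}) :=
    MvPolynomial.eval₂Hom (algebraMap k (B ⧸ Ideal.span {algebraMap (PowerSeries k) B PowerSeries.X})) fun i => mk₀ (pol ψ (MvPolynomial.X i))
  have hC : ∀ x : k, φ₀ (MvPolynomial.C x) = algebraMap k (B ⧸ Ideal.span {algebraMap (PowerSeries k) B PowerSeries.X}) x := fun x => MvPolynomial.eval₂Hom_C _ _ x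
  have hφρ : φ₀.comp rho = mk₀.comp (pol ψ).toRingHom := by
    refine MvPolynomial.ringHom_ext (fun s => ?_) fun i => by simp [φ₀, rho]
    show φ₀ (rho (MvPolynomial.C s)) = mk₀ (pol ψ (MvPolynomial.C s))
    rw [← MvPolynomial.algebraMap_eq, AlgHom.commutes, MvPolynomial.algebraMap_eq,
      show rho (MvPolynomial.C s : (MvPolynomial (Fin r) (PowerSeries k))) = MvPolynomial.C (PowerSeries.constantCoeff s) from MvPolynomial.map_C _ _,
      hC]
    conv_rhs => rw [PowerSeries.eq_X_mul_shift_add_const s]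
    rw [map_add, map_add, map_mul, map_mul, hX, zero_mul, zero_add]
    rfl
  have hθψ : ∀ x : (AdicCompletion (Ideal.span {MvPolynomial.C (σ := Fin r) (PowerSeries.X (R := k))}) (MvPolynomial (Fin r) (PowerSeries k))), φ₀ (theta x) = mk₀ (ψ x) := by
    intro x
    obtain ⟨p, hp⟩ := exists_approx x 1
    obtain ⟨y, hy⟩ := Ideal.mem_span_singleton.mp hp
    rw [show x = algebraMap (MvPolynomial (Fin r) (PowerSeries k)) (AdicCompletion (Ideal.span {MvPolynomial.C (σ := Fin r) (PowerSeries.X (R := k))}) (MvPolynomial (Fin r) (PowerSeries k))) p + (algebraMap (PowerSeries k) (AdicCompletion (Ideal.span {MvPolynomial.C (σ := Fin r) (PowerSeries.X (R := k))}) (MvPolynomial (Fin r) (PowerSeries k))) PowerSeries.X) ^ 1 * y by rw [← hy]; abel, pow_one, map_add, map_mul, theta_t, zero_mul,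
      add_zero, map_add, map_mul, AlgHom.commutes, map_add, map_mul, hX, zero_mul, add_zero, theta_algebraMap]
    exact RingHom.congr_fun hφρ p
  let a₀ : Fin c → MvPolynomial (Fin r) k := fun j => theta (a j)
  have hφsurj : Function.Surjective φ₀ := fun b => by
    obtain ⟨b, rfl⟩ := Ideal.Quotient.mk_surjective b
    obtain ⟨x, rfl⟩ := hψ b
    exact ⟨theta x, hθψ x⟩
  have hker₀ : RingHom.ker φ₀ = Ideal.span (Set.range a₀) := by
    refine le_antisymm (fun q hq => ?_) (Ideal.span_le.mpr ?_)
    · obtain ⟨x, rfl⟩ := theta_surjective q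
      have h1 : ψ x ∈ Ideal.span {(algebraMap (PowerSeries k) B PowerSeries.X)} := Ideal.Quotient.eq_zero_iff_mem.mp ((hθψ x).symm.trans hq)
      obtain ⟨b, hb⟩ := Ideal.mem_span_singleton.mp h1
      obtain ⟨y, rfl⟩ := hψ b
      have h2 : x - (algebraMap (PowerSeries k) (AdicCompletion (Ideal.span {MvPolynomial.C (σ := Fin r) (PowerSeries.X (R := k))}) (MvPolynomial (Fin r) (PowerSeries k))) PowerSeries.X) * y ∈ Ideal.span (Set.range a) := by
        rw [← hker, RingHom.mem_ker]
        show ψ _ = 0
        rw [map_sub, map_mul, AlgHom.commutes, hb, sub_self]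
      have h3 := Ideal.mem_map_of_mem theta h2
      rw [map_sub, map_mul, theta_t, zero_mul, sub_zero, Ideal.map_span, ← Set.range_comp] at h3
      exact h3
    · rintro _ ⟨j, rfl⟩
      have h0 : ψ (a j) = 0 :=
        RingHom.mem_ker.mp (hker ▸ Ideal.subset_span ⟨j, rfl⟩ : a j ∈ RingHom.ker ψ.toRingHom)
      show φ₀ (theta (a j)) = 0
      rw [hθψ, h0, map_zero]
  let e : ((AdicCompletion (Ideal.span {MvPolynomial.C (σ := Fin r) (PowerSeries.X (R := k))}) (MvPolynomial (Fin r) (PowerSeries k))) ⧸ Ideal.span {(algebraMap (PowerSeries k) (AdicCompletion (Ideal.span {MvPolynomial.C (σ := Fin r) (PowerSeries.X (R := k))}) (MvPolynomial (Fin r) (PowerSeries k))) PowerSeries.X) ^ 1}) ≃+* MvPolynomial (Fin r) k := RingEquiv.ofBijective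
    (Ideal.Quotient.lift _ theta fun x hx => (theta_eq_zero_iff x).mpr hx)
    ⟨RingHom.lift_injective_of_ker_le_ideal _ (fun x hx => (theta_eq_zero_iff x).mpr hx)
        (fun x hx => (theta_eq_zero_iff x).mp hx),
      Ideal.Quotient.lift_surjective_of_surjective _ _ theta_surjective⟩
  have hreg₀ : RingTheory.Sequence.IsRegular (MvPolynomial (Fin r) k) (List.ofFn a₀) :=
    (e.toAddEquiv.isRegular_congr (as := (List.ofFn a).map (Ideal.Quotient.mk (Ideal.span {(algebraMap (PowerSeries k) (AdicCompletion (Ideal.span {MvPolynomial.C (σ := Fin r) (PowerSeries.X (R := k))}) (MvPolynomial (Fin r) (PowerSeries k))) PowerSeries.X) ^ 1})))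
      (bs := List.ofFn a₀) (by
        rw [List.forall₂_iff_get]
        refine ⟨by simp, fun i h₁ h₂ x => ?_⟩
        simp only [List.get_eq_getElem, List.getElem_map, List.getElem_ofFn, smul_eq_mul]
        show e (_ * x) = _ * e x
        rw [map_mul]
        rfl)).mp hreg
  letI : Algebra (MvPolynomial (Fin r) k) (B ⧸ Ideal.span {algebraMap (PowerSeries k) B PowerSeries.X}) := φ₀.toAlgebra
  haveI : IsScalarTower k (MvPolynomial (Fin r) k) (B ⧸ Ideal.span {algebraMap (PowerSeries k) B PowerSeries.X}) := IsScalarTower.of_algebraMap_eq fun x => (hC x).symm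
  have hinj₀ := S16187.injective_jacobian (B := (B ⧸ Ideal.span {algebraMap (PowerSeries k) B PowerSeries.X})) a₀ hφsurj hker₀ hreg₀.toIsWeaklyRegular
  have hJ : ∀ j i, S16187.J (B := (B ⧸ Ideal.span {algebraMap (PowerSeries k) B PowerSeries.X})) a₀ j i = mk₀ (row j i) := by
    intro j i
    obtain ⟨p, hp⟩ := exists_approx (a j) 1
    have hap : a₀ j = rho p := by
      rw [← theta_algebraMap, ← sub_eq_zero, ← map_sub]
      exact (theta_eq_zero_iff _).mpr hp
    show φ₀ (MvPolynomial.pderiv i (a₀ j)) = _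
    rw [hap, show MvPolynomial.pderiv i (rho p) = rho (MvPolynomial.pderiv i p) from MvPolynomial.pderiv_map]
    refine (RingHom.congr_fun hφρ _).trans (Ideal.Quotient.eq.mpr ?_)
    have := hrow j i 1 p hp
    rwa [pow_one] at this
  have hnt : Nontrivial (B ⧸ Ideal.span {algebraMap (PowerSeries k) B PowerSeries.X}) := by
    by_contra h
    rw [not_nontrivial_iff_subsingleton] at h
    refine hreg₀.top_ne_smul ?_
    have h1 : Ideal.ofList (List.ofFn a₀) = ⊤ := by
      rw [show Ideal.ofList (List.ofFn a₀) = Ideal.span (Set.range a₀) by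
        unfold Ideal.ofList; congr 1; ext; simp, ← hker₀, Ideal.eq_top_iff_one, RingHom.mem_ker]
      exact Subsingleton.elim _ _
    rw [h1, Submodule.top_smul]
  refine ⟨?_, by simpa using LinearMap.finrank_le_finrank_of_injective hinj₀⟩
  have hreduce : ∀ w, Fintype.linearCombination B row w = 0 → ∀ j, w j ∈ Ideal.span {(algebraMap (PowerSeries k) B PowerSeries.X)} := by
    intro w hw j
    have h1 : Fintype.linearCombination (B ⧸ Ideal.span {algebraMap (PowerSeries k) B PowerSeries.X}) (S16187.J (B := (B ⧸ Ideal.span {algebraMap (PowerSeries k) B PowerSeries.X})) a₀) (fun j => mk₀ (w j)) = 0 := by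
      funext i
      have h2 := congrArg mk₀ (congrFun hw i)
      simp only [Fintype.linearCombination_apply, Finset.sum_apply, Pi.smul_apply, smul_eq_mul, Pi.zero_apply,
        map_sum, map_mul, map_zero] at h2 ⊢
      simpa only [hJ] using h2
    exact Ideal.Quotient.eq_zero_iff_mem.mp (congrFun (hinj₀ (h1.trans (map_zero _).symm)) j)
  rw [injective_iff_map_eq_zero]
  intro v hv
  have hu : IsSMulRegular B (PowerSeries.X : (PowerSeries k)) :=
    Module.Flat.isSMulRegular_of_isRegular (isRegular_of_ne_zero PowerSeries.X_ne_zero)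
  have key : ∀ (n : ℕ) (w : Fin c → B), Fintype.linearCombination B row w = 0 → ∀ j, w j ∈ Ideal.span {(algebraMap (PowerSeries k) B PowerSeries.X) ^ n} := by
    intro n
    induction n with
    | zero => intro w _ j; simp
    | succ n ih =>
      intro w hw j
      choose w' hw' using fun j => Ideal.mem_span_singleton.mp (hreduce w hw j)
      have hw'0 : Fintype.linearCombination B row w' = 0 := by
        funext i
        refine hu ?_
        show (PowerSeries.X : (PowerSeries k)) • _ = (PowerSeries.X : (PowerSeries k)) • (0 : B)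
        rw [smul_zero, Algebra.smul_def]
        have := congrFun hw i
        rw [show w = (algebraMap (PowerSeries k) B PowerSeries.X) • w' from funext hw', map_smul] at this
        exact this
      rw [hw' j, pow_succ']
      exact Ideal.mem_span_singleton.mpr (mul_dvd_mul_left _ (Ideal.mem_span_singleton.mp (ih w' hw'0 j)))
  funext j
  refine IsHausdorff.haus (IsAdicComplete.toIsHausdorff (I := Ideal.span {(algebraMap (PowerSeries k) B PowerSeries.X)}) (M := B)) _ fun n => ?_
  rw [SModEq.zero, Ideal.smul_eq_mul, Ideal.mul_top, Ideal.span_singleton_pow]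
  exact key n v hv j

end

/-- The presentation of the completed differentials by the Jacobian. -/
theorem exists_presentation {k : Type u} [Field k] [PerfectField k] {r c : ℕ}
    (a : Fin c → (AdicCompletion (Ideal.span {MvPolynomial.C (σ := Fin r) (PowerSeries.X (R := k))}) (MvPolynomial (Fin r) (PowerSeries k))))
    {B : Type u} [CommRing B] [Algebra (PowerSeries k) B] [IsNoetherianRing B]
    [IsAdicComplete (Ideal.span {(algebraMap (PowerSeries k) B PowerSeries.X)}) B]
    [Module.Flat (PowerSeries k) B]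
    (ψ : (AdicCompletion (Ideal.span {MvPolynomial.C (σ := Fin r) (PowerSeries.X (R := k))}) (MvPolynomial (Fin r) (PowerSeries k))) →ₐ[(PowerSeries k)] B)
    (hψ : Function.Surjective ψ) (hker : RingHom.ker ψ.toRingHom = Ideal.span (Set.range a))
    (hreg : ∀ n : ℕ, RingTheory.Sequence.IsRegular ((AdicCompletion (Ideal.span {MvPolynomial.C (σ := Fin r) (PowerSeries.X (R := k))}) (MvPolynomial (Fin r) (PowerSeries k))) ⧸ Ideal.span {(algebraMap (PowerSeries k) (AdicCompletion (Ideal.span {MvPolynomial.C (σ := Fin r) (PowerSeries.X (R := k))}) (MvPolynomial (Fin r) (PowerSeries k))) PowerSeries.X) ^ (n + 1)})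
      ((List.ofFn a).map (Ideal.Quotient.mk (Ideal.span {(algebraMap (PowerSeries k) (AdicCompletion (Ideal.span {MvPolynomial.C (σ := Fin r) (PowerSeries.X (R := k))}) (MvPolynomial (Fin r) (PowerSeries k))) PowerSeries.X) ^ (n + 1)}))))
    [IsReduced (B ⧸ Ideal.span {algebraMap (PowerSeries k) B PowerSeries.X})] :
    ∃ (row : Fin c → Fin r → B)
      (g : Fin r → AdicCompletion (Ideal.span {(algebraMap (PowerSeries k) B PowerSeries.X)}) Ω[B⁄(PowerSeries k)]),
      Function.Injective (Fintype.linearCombination B row) ∧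
      Function.Exact (Fintype.linearCombination B row) (Fintype.linearCombination B g) ∧
      Function.Surjective (Fintype.linearCombination B g) ∧ c ≤ r := by
  choose row hrow using fun j i => exists_jac ψ a j i
  obtain ⟨hinj, hcr⟩ := injective_row ψ a hψ hker row hrow (hreg 0)
  exact ⟨row, gen ψ, hinj, exact_gen ψ a hψ hker row hrow, surjective_gen ψ hψ, hcr⟩

end Groth.Agent.FittFormal
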